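import Mathlib
import Groth.Prelude.Def_DRing3
import Groth.Agent.Lib.Helper14.CohPush.Link

/-!
# Dévissage for classes of finite modules closed under submodules and extensions (helper14)

`DevClass.main`: if a class `P` of modules over a Noetherian ring `A` is closed under submodules and
extensions, contains the zero modules and the modules supported in a specialization-stable set `Z`,
then it contains every finite module `M` such that `P (A/p)` for every `p ∈ Ass M ∖ Z`.
-/

set_option autoImplicit false
set_option linter.style.haveILetI false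
set_option linter.unusedSectionVars false
set_option linter.unusedVariables false

universe u

namespace Groth.Agent.Lib.Helper14.ZH

open Groth.Agent.Lib.Helper14.CohPush

variable {A : Type u} [CommRing A] [IsNoetherianRing A]

/-- closure properties of a class of modules. -/
structure DevClass (P : ∀ (M : Type u) [AddCommGroup M] [Module A M], Prop) : Prop where
  zero : ∀ (M : Type u) [AddCommGroup M] [Module A M] [Subsingleton M], P M
  inj : ∀ (M₁ M₂ : Type u) [AddCommGroup M₁] [Module A M₁] [AddCommGroup M₂] [Module A M₂]
    (f : M₁ →ₗ[A] M₂), Function.Injective f → P M₂ → P M₁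
  ext : ∀ (M : Type u) [AddCommGroup M] [Module A M] (N : Submodule A M),
    P N → P (M ⧸ N) → P M

variable {P : ∀ (M : Type u) [AddCommGroup M] [Module A M], Prop}

/-- the saturation of `A x` with respect to `A ∖ p`. -/
def satSpan (p : Ideal A) [hp : p.IsPrime] {N : Type u} [AddCommGroup N] [Module A N] (x : N) :
    Submodule A N where
  carrier := {y | ∃ a : A, a ∉ p ∧ a • y ∈ Submodule.span A {x}}
  zero_mem' := ⟨1, fun h => hp.ne_top ((Ideal.eq_top_iff_one p).2 h), by
    rw [smul_zero]; exact zero_mem _⟩
  add_mem' := by
    rintro y y' ⟨a, ha, hy⟩ ⟨a', ha', hy'⟩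
    refine ⟨a * a', fun h => (hp.mem_or_mem h).elim ha ha', ?_⟩
    rw [smul_add]
    refine add_mem ?_ ?_
    · rw [mul_comm, mul_smul]
      exact Submodule.smul_mem _ _ hy
    · rw [mul_smul]
      exact Submodule.smul_mem _ _ hy'
  smul_mem' := by
    rintro c y ⟨a, ha, hy⟩
    refine ⟨a, ha, ?_⟩
    rw [smul_comm]
    exact Submodule.smul_mem _ _ hy

theorem exists_common_mult (p : Ideal A) [hp : p.IsPrime] {N : Type u} [AddCommGroup N]
    [Module A N] [Module.Finite A N] (x : N) :
    ∃ a : A, a ∉ p ∧ ∀ y ∈ satSpan p x, a • y ∈ Submodule.span A {x} := by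
  classical
  haveI : IsNoetherian A N := isNoetherian_of_isNoetherianRing_of_finite A N
  obtain ⟨G, hG⟩ := (IsNoetherian.noetherian (satSpan p x) : (satSpan p x).FG)
  have hGx : ∀ g ∈ G, ∃ a : A, a ∉ p ∧ a • g ∈ Submodule.span A {x} := by
    intro g hg
    exact (hG ▸ Submodule.subset_span hg : g ∈ satSpan p x)
  choose! c hc using hGx
  refine ⟨∏ g ∈ G, c g, ?_, ?_⟩
  · intro h
    obtain ⟨g, hg, hgp⟩ := (hp.prod_mem_iff).1 h
    exact (hc g hg).1 hgp
  · intro y hy
    rw [← hG] at hy
    refine Submodule.span_induction (p := fun y _ => (∏ g ∈ G, c g) • y ∈ Submodule.span A {x})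
      ?_ ?_ ?_ ?_ hy
    · intro g hg
      obtain ⟨d, hd⟩ := Finset.dvd_prod_of_mem c hg
      rw [hd, mul_comm, mul_smul]
      exact Submodule.smul_mem _ _ (hc g hg).2
    · rw [smul_zero]; exact zero_mem _
    · intro y z _ _ h1 h2
      rw [smul_add]; exact add_mem h1 h2
    · intro r y _ h1
      rw [smul_comm]; exact Submodule.smul_mem _ _ h1

/-- finite torsion-free `A/p`-modules. -/
theorem DevClass.of_torsionFree (hP : DevClass P) (p : Ideal A) [hp : p.IsPrime]
    (hPp : P (A ⧸ p)) :
    ∀ (n : ℕ) (N : Type u) [AddCommGroup N] [Module A N] (s : Fin n → N),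
      Submodule.span A (Set.range s) = ⊤ →
      (∀ a ∈ p, ∀ x : N, a • x = 0) → (∀ a : A, a ∉ p → ∀ x : N, a • x = 0 → x = 0) → P N := by
  intro n
  induction n with
  | zero =>
    intro N _ _ s hs _ _
    haveI : Subsingleton N := by
      have : (⊤ : Submodule A N) = ⊥ := by
        rw [← hs, Submodule.span_eq_bot]
        rintro _ ⟨i, _⟩
        exact i.elim0
      refine ⟨fun a b => ?_⟩
      have ha : a ∈ (⊥ : Submodule A N) := this ▸ Submodule.mem_top
      have hb : b ∈ (⊥ : Submodule A N) := this ▸ Submodule.mem_top
      rw [Submodule.mem_bot] at ha hb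
      rw [ha, hb]
    exact hP.zero N
  | succ n ih =>
    intro N _ _ s hs hkill hreg
    haveI : Module.Finite A N := ⟨by rw [← hs]; exact Submodule.fg_span (Set.finite_range s)⟩
    by_cases hx : s 0 = 0
    · -- drop the zero generator
      apply ih N (fun i => s i.succ) ?_ hkill hreg
      rw [eq_top_iff, ← hs, Submodule.span_le]
      rintro _ ⟨i, rfl⟩
      refine Fin.cases ?_ (fun j => ?_) i
      · rw [hx]; exact zero_mem _
      · exact Submodule.subset_span ⟨j, rfl⟩
    · set x := s 0 with hxdef
      -- `A/p ↪ N`, `1 ↦ x`
      let φ : (A ⧸ p) →ₗ[A] N := Submodule.liftQ p (LinearMap.toSpanSingleton A N x) (by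
        intro a ha
        rw [LinearMap.mem_ker, LinearMap.toSpanSingleton_apply]
        exact hkill a ha x)
      have hφ : Function.Injective φ := by
        rw [← LinearMap.ker_eq_bot, eq_bot_iff]
        intro y hy
        obtain ⟨a, rfl⟩ := Submodule.Quotient.mk_surjective _ y
        rw [LinearMap.mem_ker] at hy
        change a • x = 0 at hy
        rw [Submodule.mem_bot]
        by_contra hne
        have hap : a ∉ p := fun h => hne ((Submodule.Quotient.mk_eq_zero _).2 h)
        exact hx (hreg a hap x hy)
      have hrange : LinearMap.range φ = Submodule.span A {x} := by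
        rw [Submodule.range_liftQ, LinearMap.range_toSpanSingleton]
      obtain ⟨a, hap, ha⟩ := exists_common_mult p x
      -- `P (satSpan p x)`
      have h1 : P (satSpan p x) := by
        let ψ : satSpan p x →ₗ[A] LinearMap.range φ :=
          LinearMap.codRestrict (LinearMap.range φ)
            ((a • LinearMap.id : N →ₗ[A] N) ∘ₗ (satSpan p x).subtype) (by
              intro y
              rw [hrange]
              exact ha y.1 y.2)
        have hψ : Function.Injective ψ := by
          intro y z hyz
          have h2 : a • (y : N) = a • (z : N) := congrArg Subtype.val hyz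
          apply Subtype.ext
          rw [← sub_eq_zero]
          apply hreg a hap
          rw [smul_sub, h2, sub_self]
        apply hP.inj _ _ (((LinearEquiv.ofInjective φ hφ).symm : _ →ₗ[A] _) ∘ₗ ψ) ?_ hPp
        intro y z hyz
        exact hψ ((LinearEquiv.ofInjective φ hφ).symm.injective hyz)
      -- `P (N / satSpan p x)`
      have hxmem : x ∈ satSpan p x :=
        ⟨1, fun h => hp.ne_top ((Ideal.eq_top_iff_one p).2 h), by
          rw [one_smul]; exact Submodule.mem_span_singleton_self x⟩
      have h3 : P (N ⧸ satSpan p x) := by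
        apply ih (N ⧸ satSpan p x) (fun i => (satSpan p x).mkQ (s i.succ))
        · rw [eq_top_iff]
          rintro y -
          obtain ⟨y, rfl⟩ := Submodule.Quotient.mk_surjective _ y
          have hy : y ∈ Submodule.span A (Set.range s) := hs ▸ Submodule.mem_top
          refine Submodule.span_induction (p := fun y _ => (Submodule.Quotient.mk y :
            N ⧸ satSpan p x) ∈ Submodule.span A (Set.range fun i : Fin n =>
              (satSpan p x).mkQ (s i.succ))) ?_ ?_ ?_ ?_ hy
          · rintro _ ⟨i, rfl⟩
            refine Fin.cases ?_ (fun j => ?_) i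
            · rw [(Submodule.Quotient.mk_eq_zero _).2 hxmem]; exact zero_mem _
            · exact Submodule.subset_span ⟨j, rfl⟩
          · rw [Submodule.Quotient.mk_zero]; exact zero_mem _
          · intro y z _ _ h1 h2
            rw [Submodule.Quotient.mk_add]; exact add_mem h1 h2
          · intro r y _ h1
            rw [Submodule.Quotient.mk_smul]; exact Submodule.smul_mem _ _ h1
        · intro b hb y
          obtain ⟨y, rfl⟩ := Submodule.Quotient.mk_surjective _ y
          rw [← Submodule.Quotient.mk_smul, hkill b hb y, Submodule.Quotient.mk_zero]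
        · intro b hb y hy
          obtain ⟨y, rfl⟩ := Submodule.Quotient.mk_surjective _ y
          rw [← Submodule.Quotient.mk_smul, Submodule.Quotient.mk_eq_zero] at hy
          rw [Submodule.Quotient.mk_eq_zero]
          obtain ⟨c, hc, hcy⟩ := hy
          refine ⟨c * b, fun h => (hp.mem_or_mem h).elim hc hb, ?_⟩
          rw [mul_smul]
          exact hcy
      exact hP.ext N (satSpan p x) h1 h3

/-- finite modules killed by a power of `p` on which `A ∖ p` acts regularly. -/
theorem DevClass.of_coprimary (hP : DevClass P) (p : Ideal A) [hp : p.IsPrime]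
    (hPp : P (A ⧸ p)) :
    ∀ (k : ℕ) (N : Type u) [AddCommGroup N] [Module A N] [Module.Finite A N],
      (∀ a ∈ p ^ k, ∀ x : N, a • x = 0) →
      (∀ a : A, a ∉ p → ∀ x : N, a • x = 0 → x = 0) → P N := by
  intro k
  induction k with
  | zero =>
    intro N _ _ _ hkill _
    haveI : Subsingleton N := ⟨fun a b => by
      have h1 := hkill 1 (by rw [pow_zero, Ideal.one_eq_top]; exact Submodule.mem_top) a
      have h2 := hkill 1 (by rw [pow_zero, Ideal.one_eq_top]; exact Submodule.mem_top) b
      rw [one_smul] at h1 h2
      rw [h1, h2]⟩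
    exact hP.zero N
  | succ k ih =>
    intro N _ _ _ hkill hreg
    haveI : IsNoetherian A N := isNoetherian_of_isNoetherianRing_of_finite A N
    let N₁ : Submodule A N :=
      { carrier := {x | ∀ b ∈ p, b • x = 0}
        zero_mem' := fun b _ => smul_zero b
        add_mem' := fun {x y} hx hy b hb => by rw [smul_add, hx b hb, hy b hb, add_zero]
        smul_mem' := fun c x hx b hb => by rw [smul_comm, hx b hb, smul_zero] }
    have h1 : P N₁ := by
      obtain ⟨n, s, hs⟩ := Module.Finite.exists_fin (R := A) (M := N₁)
      apply hP.of_torsionFree p hPp n N₁ s hs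
      · intro a ha x
        apply Subtype.ext
        exact x.2 a ha
      · intro a ha x hx
        apply Subtype.ext
        exact hreg a ha x.1 (congrArg Subtype.val hx)
    have h3 : P (N ⧸ N₁) := by
      apply ih (N ⧸ N₁)
      · intro c hc y
        obtain ⟨y, rfl⟩ := Submodule.Quotient.mk_surjective _ y
        rw [← Submodule.Quotient.mk_smul, Submodule.Quotient.mk_eq_zero]
        intro b hb
        rw [← mul_smul]
        apply hkill
        rw [pow_succ']
        exact Ideal.mul_mem_mul hb hc
      · intro a ha y hy
        obtain ⟨y, rfl⟩ := Submodule.Quotient.mk_surjective _ y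
        rw [← Submodule.Quotient.mk_smul, Submodule.Quotient.mk_eq_zero] at hy
        rw [Submodule.Quotient.mk_eq_zero]
        intro b hb
        apply hreg a ha
        rw [smul_comm]
        exact hy b hb
    exact hP.ext N N₁ h1 h3

/-- `Γ_J(M)` is killed by a single power of `J`. -/
theorem exists_pow_kill_torsionSub (J : Ideal A) (M : Type u) [AddCommGroup M] [Module A M]
    [Module.Finite A M] :
    ∃ k : ℕ, ∀ a ∈ J ^ k, ∀ z ∈ DRing.torsionSub J M, a • z = 0 := by
  classical
  haveI : IsNoetherian A M := isNoetherian_of_isNoetherianRing_of_finite A M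
  obtain ⟨G, hG⟩ := (IsNoetherian.noetherian (DRing.torsionSub J M) : (DRing.torsionSub J M).FG)
  have hGx : ∀ g ∈ G, ∃ k : ℕ, ∀ a ∈ J ^ k, a • g = 0 := by
    intro g hg
    exact (hG ▸ Submodule.subset_span hg : g ∈ DRing.torsionSub J M)
  choose! k hk using hGx
  refine ⟨G.sup k, fun a ha z hz => ?_⟩
  rw [← hG] at hz
  refine Submodule.span_induction (p := fun z _ => a • z = 0) ?_ ?_ ?_ ?_ hz
  · intro g hg
    exact hk g hg a (Ideal.pow_le_pow_right (Finset.le_sup hg) ha)
  · exact smul_zero a
  · intro y z _ _ h1 h2
    rw [smul_add, h1, h2, add_zero]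
  · intro r y _ h1
    rw [smul_comm, h1, smul_zero]

/-- finite modules all of whose associated primes `p` satisfy `P (A/p)`. -/
theorem DevClass.of_ass (hP : DevClass P) :
    ∀ (n : ℕ) (M : Type u) [AddCommGroup M] [Module A M] [Module.Finite A M],
      (associatedPrimes A M).ncard ≤ n →
      (∀ p ∈ associatedPrimes A M, P (A ⧸ p)) → P M := by
  intro n
  induction n with
  | zero =>
    intro M _ _ _ hcard _
    have hfin : (associatedPrimes A M).Finite := associatedPrimes.finite A M
    have hempty : associatedPrimes A M = ∅ := by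
      rwa [Nat.le_zero, Set.ncard_eq_zero hfin] at hcard
    haveI : Subsingleton M := by
      by_contra hne
      rw [not_subsingleton_iff_nontrivial] at hne
      obtain ⟨q, hq⟩ := associatedPrimes.nonempty A M
      rw [hempty] at hq
      exact hq
    exact hP.zero M
  | succ n ih =>
    intro M _ _ _ hcard hass
    have hfin : (associatedPrimes A M).Finite := associatedPrimes.finite A M
    by_cases hempty : associatedPrimes A M = ∅
    · haveI : Subsingleton M := by
        by_contra hne
        rw [not_subsingleton_iff_nontrivial] at hne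
        obtain ⟨q, hq⟩ := associatedPrimes.nonempty A M
        rw [hempty] at hq
        exact hq
      exact hP.zero M
    · obtain ⟨p, hpmax⟩ := hfin.exists_maximal (Set.nonempty_iff_ne_empty.2 hempty)
      have hpass : p ∈ associatedPrimes A M := hpmax.prop
      haveI hpp : p.IsPrime := hpass.isPrime
      -- the `p`-power torsion
      obtain ⟨k, hk⟩ := exists_pow_kill_torsionSub p M
      have h1 : P (DRing.torsionSub p M) := by
        haveI : IsNoetherian A M := isNoetherian_of_isNoetherianRing_of_finite A M
        apply hP.of_coprimary p (hass p hpass) k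
        · intro a ha x
          apply Subtype.ext
          exact hk a ha x.1 x.2
        · intro a ha x hx
          by_contra hne
          obtain ⟨q, hq, hle⟩ := exists_le_isAssociatedPrime_of_isNoetherianRing A x hne
          have hqM : q ∈ associatedPrimes A M :=
            associatedPrimes.subset_of_injective (f := (DRing.torsionSub p M).subtype)
              (Submodule.injective_subtype _) hq
          haveI := hq.isPrime
          obtain ⟨-, y, hy⟩ := isAssociatedPrime_iff.1 hq
          have hpq : p ≤ q := by
            intro b hb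
            apply hq.isPrime.mem_of_pow_mem k
            rw [hy, Submodule.mem_colon_singleton, Submodule.mem_bot]
            apply Subtype.ext
            exact hk (b ^ k) (Ideal.pow_mem_pow hb k) y.1 y.2
          have hqp : q ≤ p := hpmax.le_of_ge hqM hpq
          apply ha
          apply hqp
          apply hle
          rw [Submodule.mem_colon_singleton, Submodule.mem_bot]
          exact hx
      have h3 : P (M ⧸ DRing.torsionSub p M) := by
        apply ih
        · have hsub : associatedPrimes A (M ⧸ DRing.torsionSub p M) ⊆
              associatedPrimes A M \ {p} := by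
            intro q hq
            obtain ⟨hq1, hq2⟩ := mem_associatedPrimes_of_Mbar p M hq
            refine ⟨hq1, ?_⟩
            rintro rfl
            exact hq2 le_rfl
          have h4 := Set.ncard_le_ncard hsub (hfin.subset Set.diff_subset)
          have h5 := Set.ncard_diff_singleton_add_one hpass hfin
          omega
        · intro q hq
          exact hass q (mem_associatedPrimes_of_Mbar p M hq).1
      exact hP.ext M _ h1 h3

/-- **Dévissage.** -/
theorem DevClass.main (hP : DevClass P) (Z : Set (PrimeSpectrum A))
    (hZ : StableUnderSpecialization Z)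
    (htors : ∀ J : Ideal A, PrimeSpectrum.zeroLocus (J : Set A) ⊆ Z →
      ∀ (M : Type u) [AddCommGroup M] [Module A M],
        (∀ m : M, ∃ n : ℕ, ∀ a ∈ J ^ n, a • m = 0) → P M)
    (M : Type u) [AddCommGroup M] [Module A M] [Module.Finite A M]
    (hprime : ∀ (p : Ideal A) (hp : p.IsPrime), p ∈ associatedPrimes A M →
      (⟨p, hp⟩ : PrimeSpectrum A) ∉ Z → P (A ⧸ p)) : P M := by
  classical
  have hfin : (associatedPrimes A M).Finite := associatedPrimes.finite A M
  let S : Finset (Ideal A) := hfin.toFinset.filter
    (fun q => ∃ hq : q.IsPrime, (⟨q, hq⟩ : PrimeSpectrum A) ∈ Z)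
  let J : Ideal A := S.inf id
  have hJ : PrimeSpectrum.zeroLocus (J : Set A) ⊆ Z := by
    intro y hy
    rw [PrimeSpectrum.mem_zeroLocus, SetLike.coe_subset_coe] at hy
    obtain ⟨q, hqS, hqy⟩ := (Ideal.IsPrime.inf_le' y.isPrime).1 hy
    obtain ⟨-, hq, hqZ⟩ := Finset.mem_filter.1 hqS
    have hsp : (⟨q, hq⟩ : PrimeSpectrum A) ⤳ y := by
      rw [← PrimeSpectrum.le_iff_specializes]
      exact hqy
    exact hZ hsp hqZ
  have h1 : P (DRing.torsionSub J M) := by
    apply htors J hJ
    intro m
    obtain ⟨n, hn⟩ := m.2
    exact ⟨n, fun a ha => Subtype.ext (hn a ha)⟩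
  have h3 : P (M ⧸ DRing.torsionSub J M) := by
    apply hP.of_ass _ _ le_rfl
    intro q hq
    obtain ⟨hq1, hq2⟩ := mem_associatedPrimes_of_Mbar J M hq
    apply hprime q hq1.isPrime hq1
    intro hqZ
    apply hq2
    apply Finset.inf_le (f := id)
    exact Finset.mem_filter.2 ⟨hfin.mem_toFinset.2 hq1, hq1.isPrime, hqZ⟩
  exact hP.ext M _ h1 h3

end Groth.Agent.Lib.Helper14.ZH
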