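import Mathlib
import Groth.Agent.Lib.Helper13.TildeCech

/-!
# Evaluation of sections of `M~` at a point (helper14)
-/

set_option autoImplicit false
set_option linter.style.haveILetI false
set_option linter.unusedSectionVars false
set_option linter.unusedVariables false

universe u
open CategoryTheory CategoryTheory.Limits Opposite TopologicalSpace AlgebraicGeometry
open Groth.Agent.Lib.Helper13.TildeCech

noncomputable section

namespace Groth.Agent.Lib.Helper14.ZH

variable {R : CommRingCat.{u}}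

/-- evaluation of a section of the structure presheaf of `M` at a point. -/
def evRaw (M : ModuleCat.{u} R) (U : (Spec R).Opens) (x : PrimeSpectrum.Top R) (hx : x ∈ U) :
    ((structurePresheafInModuleCat R M).obj (op U)) →ₗ[R]
      LocalizedModule x.asIdeal.primeCompl M where
  toFun s := s.1 ⟨x, hx⟩
  map_add' _ _ := rfl
  map_smul' _ _ := rfl

/-- evaluation of a section of `M~` over `U` at a point `x ∈ U`, in `M_x`. -/
def evLoc (M : ModuleCat.{u} R) (U : (Spec R).Opens) (x : PrimeSpectrum.Top R) (hx : x ∈ U) :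
    Γ(tilde M, U) →ₗ[R] LocalizedModule x.asIdeal.primeCompl M :=
  (evRaw M U x hx).comp
    (((tilde.modulesSpecToSheafIso M).app (op U)).hom.hom)

theorem evLoc_res (M : ModuleCat.{u} R) {U W : (Spec R).Opens} (h : W ≤ U)
    (x : PrimeSpectrum.Top R) (hx : x ∈ W) (s : Γ(tilde M, U)) :
    evLoc M W x hx (res (tilde M) h s) = evLoc M U x (h hx) s := rfl

theorem evLoc_toOpen (M : ModuleCat.{u} R) (U : (Spec R).Opens) (x : PrimeSpectrum.Top R)
    (hx : x ∈ U) (m : M) :
    evLoc M U x hx ((tilde.toOpen M U).hom m) =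
      LocalizedModule.mkLinearMap x.asIdeal.primeCompl M m := rfl


/-- the basic open `D(g)` as an open of the scheme `Spec R`. -/
abbrev D (g : R) : (Spec R).Opens := PrimeSpectrum.basicOpen (R := R) g

theorem D_mul (g a : R) : D (g * a) = D g ⊓ D a := PrimeSpectrum.basicOpen_mul g a

/-- a section vanishing locally vanishes. -/
theorem eq_zero_of_locally (M : (Spec R).Modules) {U : (Spec R).Opens} (s : Γ(M, U))
    (h : ∀ x ∈ U, ∃ (W : (Spec R).Opens) (hW : W ≤ U), x ∈ W ∧ res M hW s = 0) : s = 0 := by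
  apply TopCat.Presheaf.IsSheaf.section_ext (modulesSpecToSheaf.obj M).2 (U := op U)
  intro x hx
  obtain ⟨W, hW, hxW, h1⟩ := h x hx
  refine ⟨W, hW, hxW, ?_⟩
  have h2 : res M hW (0 : Γ(M, U)) = 0 := map_zero _
  exact h1.trans h2.symm

/-- local representation of a section of `M~` as a fraction. -/
theorem exists_local_rep (M : ModuleCat.{u} R) {U : (Spec R).Opens} (s : Γ(tilde M, U))
    (x : PrimeSpectrum.Top R) (hx : x ∈ U) :
    ∃ (g : R) (_ : x ∈ D g) (hle : D g ≤ U) (n : ℕ)
      (f : M), g ^ n • res (tilde M) hle s = (tilde.toOpen M (D g)).hom f := by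
  obtain ⟨_, ⟨_, ⟨g, rfl⟩, rfl⟩, hxg, hgU⟩ :=
    PrimeSpectrum.isBasis_basic_opens.exists_subset_of_mem_open hx U.2
  have hle : D g ≤ U := hgU
  obtain ⟨⟨f, ⟨_, n, rfl⟩⟩, hf⟩ := IsLocalizedModule.surj (Submonoid.powers g)
    (tilde.toOpen M (D g)).hom (res (tilde M) hle s)
  exact ⟨g, hxg, hle, n, f, hf⟩

theorem exists_rep_basicOpen (M : ModuleCat.{u} R) (h : R)
    (t : Γ(tilde M, D h)) :
    ∃ (m : ℕ) (b : M), h ^ m • t = (tilde.toOpen M (D h)).hom b := by
  obtain ⟨⟨b, ⟨_, m, rfl⟩⟩, hb⟩ := IsLocalizedModule.surj (Submonoid.powers h)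
    (tilde.toOpen M (D h)).hom t
  exact ⟨m, b, hb⟩

theorem eq_zero_of_pow_smul (F : (Spec R).Modules) (g : R) (n : ℕ) (t : Γ(F, D g))
    (h : g ^ n • t = 0) : t = 0 := by
  have reg : IsSMulRegular Γ(F, D g) (g ^ n) :=
    (Scheme.Modules.isSMulRegular_of_le_basicOpen (M := F) (le_refl (D g))).pow n
  apply reg
  change g ^ n • t = g ^ n • 0
  rw [h, smul_zero]

theorem eq_zero_of_smul_of_le (F : (Spec R).Modules) (h a : R) (hle : D h ≤ D a)
    (t : Γ(F, D h)) (ht : a • t = 0) : t = 0 := by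
  have reg : IsSMulRegular Γ(F, D h) a :=
    Scheme.Modules.isSMulRegular_of_le_basicOpen (M := F) hle
  apply reg
  change a • t = a • 0
  rw [ht, smul_zero]

theorem smul_toOpen (M : ModuleCat.{u} R) (U : (Spec R).Opens) (a : R) (b : M) :
    (a • ((tilde.toOpen M U).hom b : Γ(tilde M, U)) : Γ(tilde M, U)) =
      (tilde.toOpen M U).hom (a • b) :=
  (map_smul (tilde.toOpen M U).hom a b).symm

section domain

variable (p : Ideal R) [hp : p.IsPrime]

/-- the point of `Spec R` corresponding to `p`. -/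
def etaPt : PrimeSpectrum.Top R := ⟨p, hp⟩

/-- `R/p → Frac(R/p)`, `R`-linear. -/
def iotaK : (R ⧸ p) →ₗ[R] FractionRing (R ⧸ p) :=
  (IsScalarTower.toAlgHom R (R ⧸ p) (FractionRing (R ⧸ p))).toLinearMap

theorem iotaK_apply (b : R ⧸ p) : iotaK p b = algebraMap (R ⧸ p) (FractionRing (R ⧸ p)) b := rfl

theorem iotaK_injective : Function.Injective (iotaK p) :=
  IsFractionRing.injective (R ⧸ p) (FractionRing (R ⧸ p))

theorem smul_K (a : R) (k : FractionRing (R ⧸ p)) :
    a • k = algebraMap (R ⧸ p) (FractionRing (R ⧸ p)) (Ideal.Quotient.mk p a) * k := by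
  rw [Algebra.smul_def]
  rfl

theorem smul_K_eq_zero {a : R} (ha : a ∉ p) {k : FractionRing (R ⧸ p)} (h : a • k = 0) : k = 0 := by
  rw [smul_K] at h
  rcases mul_eq_zero.1 h with h1 | h1
  · exfalso
    apply ha
    rw [← Ideal.Quotient.eq_zero_iff_mem]
    exact IsFractionRing.injective (R ⧸ p) (FractionRing (R ⧸ p)) (h1.trans (map_zero _).symm)
  · exact h1

theorem isUnit_end_K (s : p.primeCompl) :
    IsUnit (algebraMap R (Module.End R (FractionRing (R ⧸ p))) s) := by
  rw [Module.End.isUnit_iff]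
  have hs : (s : R) ∉ p := s.2
  have hne : algebraMap (R ⧸ p) (FractionRing (R ⧸ p)) (Ideal.Quotient.mk p s) ≠ 0 := by
    intro h
    apply hs
    rw [← Ideal.Quotient.eq_zero_iff_mem]
    exact IsFractionRing.injective (R ⧸ p) (FractionRing (R ⧸ p)) (h.trans (map_zero _).symm)
  constructor
  · intro k k' hkk
    rw [Module.algebraMap_end_apply, Module.algebraMap_end_apply, smul_K, smul_K] at hkk
    exact mul_left_cancel₀ hne hkk
  · intro k
    refine ⟨(algebraMap (R ⧸ p) (FractionRing (R ⧸ p)) (Ideal.Quotient.mk p s))⁻¹ * k, ?_⟩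
    rw [Module.algebraMap_end_apply, smul_K, ← mul_assoc, mul_inv_cancel₀ hne, one_mul]

/-- `(R/p)_p → Frac(R/p)`. -/
def toK : LocalizedModule p.primeCompl (R ⧸ p) →ₗ[R] FractionRing (R ⧸ p) :=
  LocalizedModule.lift p.primeCompl (iotaK p) (isUnit_end_K p)

theorem toK_mk (b : R ⧸ p) :
    toK p (LocalizedModule.mkLinearMap p.primeCompl (R ⧸ p) b) = iotaK p b := by
  have h := LocalizedModule.lift_comp p.primeCompl (iotaK p) (isUnit_end_K p)
  exact congr($h b)

theorem toK_injective : Function.Injective (toK p) := by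
  rw [← LinearMap.ker_eq_bot, eq_bot_iff]
  intro w hw
  rw [LinearMap.mem_ker] at hw
  rw [Submodule.mem_bot]
  induction w using LocalizedModule.induction_on with
  | h b s =>
    have h1 : (s : R) • LocalizedModule.mk b s =
        LocalizedModule.mkLinearMap p.primeCompl (R ⧸ p) b := by
      rw [LocalizedModule.mkLinearMap_apply, LocalizedModule.smul'_mk]
      exact LocalizedModule.mk_cancel s b
    have h2 : iotaK p b = 0 := by
      rw [← toK_mk, ← h1, map_smul, hw, smul_zero]
    have h3 : b = 0 := iotaK_injective p (h2.trans (map_zero _).symm)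
    rw [h3, LocalizedModule.zero_mk]

/-- the module `R/p` as an object. -/
abbrev Bmod : ModuleCat.{u} R := ModuleCat.of R (R ⧸ p)

/-- evaluation at the generic point of `V(p)` of a section of `(R/p)~`, in `Frac(R/p)`. -/
def evK (U : (Spec R).Opens) (hη : etaPt p ∈ U) :
    Γ(tilde (Bmod p), U) →ₗ[R] FractionRing (R ⧸ p) :=
  (toK p).comp (evLoc (Bmod p) U (etaPt p) hη)

theorem evK_res {U W : (Spec R).Opens} (h : W ≤ U) (hη : etaPt p ∈ W)
    (s : Γ(tilde (Bmod p), U)) :
    evK p W hη (res (tilde (Bmod p)) h s) = evK p U (h hη) s := rfl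

theorem evK_toOpen (U : (Spec R).Opens) (hη : etaPt p ∈ U) (b : R ⧸ p) :
    evK p U hη ((tilde.toOpen (Bmod p) U).hom b) = iotaK p b := by
  change toK p (evLoc (Bmod p) U (etaPt p) hη ((tilde.toOpen (Bmod p) U).hom b)) = _
  rw [evLoc_toOpen]
  exact toK_mk p b

theorem smul_Bmod_eq_zero {a : R} (ha : a ∈ p) (b : R ⧸ p) : a • b = 0 := by
  obtain ⟨r, rfl⟩ := Ideal.Quotient.mk_surjective b
  rw [← Ideal.Quotient.mk_eq_mk, ← Submodule.Quotient.mk_smul, Submodule.Quotient.mk_eq_zero]
  exact p.mul_mem_right r ha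

theorem evK_injective (U : (Spec R).Opens) (hη : etaPt p ∈ U) :
    Function.Injective (evK p U hη) := by
  rw [← LinearMap.ker_eq_bot, eq_bot_iff]
  intro s hs
  rw [LinearMap.mem_ker] at hs
  rw [Submodule.mem_bot]
  apply eq_zero_of_locally
  intro x hx
  obtain ⟨g, hxg, hle, n, f, hf⟩ := exists_local_rep (Bmod p) s x hx
  by_cases hpx : p ≤ x.asIdeal
  · have hgp : etaPt p ∈ D g := by
      intro hg
      exact hxg (hpx hg)
    refine ⟨D g, hle, hxg, ?_⟩
    have h1 : evK p _ hgp (g ^ n • res (tilde (Bmod p)) hle s) = 0 := by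
      rw [map_smul, evK_res, hs, smul_zero]
    rw [hf, evK_toOpen] at h1
    have h2 : f = 0 := iotaK_injective p (h1.trans (map_zero _).symm)
    rw [h2, map_zero] at hf
    exact eq_zero_of_pow_smul (tilde (Bmod p)) g n _ hf
  · obtain ⟨a, hap, hax⟩ := Set.not_subset.1 hpx
    have hW : D (g * a) ≤ U := by
      rw [D_mul]
      exact inf_le_left.trans hle
    refine ⟨D (g * a), hW, ?_, ?_⟩
    · rw [D_mul]
      exact ⟨hxg, hax⟩
    · obtain ⟨m, b, hb⟩ := exists_rep_basicOpen (Bmod p) (g * a) (res (tilde (Bmod p)) hW s)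
      apply eq_zero_of_smul_of_le (tilde (Bmod p)) (g * a) a (by rw [D_mul]; exact inf_le_right)
      apply eq_zero_of_pow_smul (tilde (Bmod p)) (g * a) m
      have h3 := smul_toOpen (Bmod p) (D (g * a)) a b
      rw [smul_Bmod_eq_zero p hap, map_zero] at h3
      rw [smul_comm, hb]
      exact h3

end domain

end Groth.Agent.Lib.Helper14.ZH
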