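import Mathlib
import Groth.Prelude.Def_ZClos
import Groth.Prelude.Def_Coh
import Groth.Agent.Lib.Helper14.TildeExact
import Groth.Agent.Lib.Helper17.ZClosKit
import Groth.Agent.Lib.Helper17.NoethApproxMod
import Groth.Agent.Lib.Helper3.QCTilde
import Groth.Agent.Lib.Helper3.QCProps
import Groth.Agent.S5840
import Groth.Agent.S5841
import Groth.Agent.S5870

/-!
# The functor `M ↦ Γ(Spec R, H⁰_{X/Z}(M~))` on modules (helper14)

`HZ Z : ModuleCat R ⥤ ModuleCat R` is left exact; `H⁰_{X/Z}(M~)` is coherent iff `HZ Z M` is a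
finite module.  `HFin Z M` (finiteness of `HZ Z M`) passes to submodules and extensions and
holds for modules all of whose elements are killed by powers of an ideal `J` with `V(J) ⊆ Z`.
-/

set_option autoImplicit false
set_option linter.style.haveILetI false
set_option linter.unusedSectionVars false
set_option linter.unusedVariables false

universe u
open CategoryTheory CategoryTheory.Limits Opposite TopologicalSpace AlgebraicGeometry

noncomputable section

namespace Groth.Agent.Lib.Helper14.ZH

variable {R : CommRingCat.{u}} [IsNoetherianRing R] (Z : Set (Spec R))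

/-- `M ↦ Γ(Spec R, H⁰_{X/Z}(M~))`. -/
def HZ : ModuleCat.{u} R ⥤ ModuleCat.{u} R :=
  tilde.functor R ⋙ ZClos.H0 (X := Spec R) Z ⋙ moduleSpecΓFunctor

theorem preservesFiniteLimits_HZ (hZ : StableUnderSpecialization Z) :
    PreservesFiniteLimits (HZ Z) := by
  haveI := preservesFiniteLimits_tilde R
  haveI : PreservesFiniteLimits (ZClos.H0 (X := Spec R) Z) :=
    Groth.Agent.S5840.result (Spec R) Z hZ
  haveI : PreservesFiniteLimits (moduleSpecΓFunctor (R := R)) := by
    have : PreservesLimitsOfSize.{0, 0} (moduleSpecΓFunctor (R := R)) :=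
      (tilde.adjunction (R := R)).rightAdjoint_preservesLimits
    exact PreservesLimitsOfSize.preservesFiniteLimits _
  unfold HZ
  infer_instance

/-- finiteness of `Γ(Spec R, H⁰_{X/Z}(M~))`. -/
def HFin (M : Type u) [AddCommGroup M] [Module R M] : Prop :=
  Module.Finite R ((HZ Z).obj (ModuleCat.of R M))

theorem isCoh_iff (hZ : StableUnderSpecialization Z) (M : Type u) [AddCommGroup M] [Module R M] :
    Coh.IsCoh ((ZClos.H0 (X := Spec R) Z).obj (tilde (ModuleCat.of R M))) ↔ HFin Z M := by
  have hq : ((ZClos.H0 (X := Spec R) Z).obj (tilde (ModuleCat.of R M))).IsQuasicoherent :=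
    Groth.Agent.S5841.result (Spec R) Z hZ _
      (inferInstanceAs (tilde (ModuleCat.of R M)).IsQuasicoherent)
  constructor
  · rintro ⟨h1, h2⟩
    haveI := h1
    haveI := h2
    exact Groth.Agent.Lib.Helper3.QCTilde.finite_of_isFiniteType
      ((ZClos.H0 (X := Spec R) Z).obj (tilde (ModuleCat.of R M)))
  · intro h
    refine ⟨hq, ?_⟩
    haveI := hq
    set N := (ZClos.H0 (X := Spec R) Z).obj (tilde (ModuleCat.of R M)) with hN
    haveI : Module.Finite R ((modulesSpecToSheaf.obj N).presheaf.obj (op ⊤)) := h
    haveI : IsIso N.fromTildeΓ := inferInstance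
    haveI := Groth.Agent.Lib.Helper17.NoethApproxMod.isFiniteType_tilde R
      ((modulesSpecToSheaf.obj N).presheaf.obj (op ⊤))
    exact Groth.Agent.Lib.Helper3.QCProps.isFiniteType_of_iso (asIso N.fromTildeΓ)

variable {Z}

theorem HFin.of_injective (hZ : StableUnderSpecialization Z) {M₁ M₂ : Type u}
    [AddCommGroup M₁] [Module R M₁] [AddCommGroup M₂] [Module R M₂] (f : M₁ →ₗ[R] M₂)
    (hf : Function.Injective f) (h : HFin Z M₂) : HFin Z M₁ := by
  haveI := preservesFiniteLimits_HZ Z hZ
  haveI : Mono (ModuleCat.ofHom f) := (ModuleCat.mono_iff_injective _).2 hf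
  haveI : Mono ((HZ Z).map (ModuleCat.ofHom f)) := inferInstance
  have hinj : Function.Injective ((HZ Z).map (ModuleCat.ofHom f)).hom :=
    (ModuleCat.mono_iff_injective _).1 inferInstance
  haveI : Module.Finite R ((HZ Z).obj (ModuleCat.of R M₂)) := h
  haveI : IsNoetherian R ((HZ Z).obj (ModuleCat.of R M₂)) :=
    isNoetherian_of_isNoetherianRing_of_finite R _
  exact Module.Finite.of_injective _ hinj

theorem finite_mid {A M N P : Type*} [CommRing A] [IsNoetherianRing A] [AddCommGroup M]
    [Module A M] [AddCommGroup N] [Module A N] [AddCommGroup P] [Module A P]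
    {f : M →ₗ[A] N} {g : N →ₗ[A] P} (h : Function.Exact f g)
    [Module.Finite A M] [Module.Finite A P] : Module.Finite A N := by
  haveI : IsNoetherian A P := isNoetherian_of_isNoetherianRing_of_finite A P
  haveI : Module.Finite A (LinearMap.range g) := Module.Finite.of_injective _
    (Submodule.injective_subtype _)
  have hex : Function.Exact f g.rangeRestrict := by
    intro y
    rw [← h y]
    constructor
    · intro hy
      exact congrArg Subtype.val hy
    · intro hy
      exact Subtype.ext hy
  exact Module.Finite.of_exact hex g.surjective_rangeRestrict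

theorem HFin.of_submodule_quotient (hZ : StableUnderSpecialization Z) {M : Type u}
    [AddCommGroup M] [Module R M] (N : Submodule R M) (h1 : HFin Z N) (h3 : HFin Z (M ⧸ N)) :
    HFin Z M := by
  haveI := preservesFiniteLimits_HZ Z hZ
  haveI : (HZ Z).Additive := by
    haveI := Limits.preservesBinaryBiproducts_of_preservesBinaryProducts (HZ Z)
    exact Functor.additive_of_preservesBinaryBiproducts _
  let S : ShortComplex (ModuleCat.{u} R) :=
    ModuleCat.shortComplexOfCompEqZero N.subtype N.mkQ (by
      ext x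
      simp)
  have hS : S.ShortExact := ModuleCat.shortComplex_shortExact S
    (LinearMap.exact_subtype_mkQ N) (Submodule.injective_subtype N)
    (Submodule.mkQ_surjective N)
  have hE := ((Functor.preservesFiniteLimits_iff_forall_exact_map_and_mono (HZ Z)).1
    inferInstance S hS).1
  have hfe : Function.Exact (S.map (HZ Z)).f.hom (S.map (HZ Z)).g.hom :=
    (ShortComplex.ShortExact.moduleCat_exact_iff_function_exact _).1 hE
  haveI : Module.Finite R ((S.map (HZ Z)).X₁) := h1
  haveI : Module.Finite R ((S.map (HZ Z)).X₃) := h3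
  exact finite_mid hfe

end Groth.Agent.Lib.Helper14.ZH

namespace Groth.Agent.Lib.Helper14.ZH

variable {R : CommRingCat.{u}} [IsNoetherianRing R] {Z : Set (Spec R)}

theorem subsingleton_stalk_of_torsion (J : Ideal R) (M : ModuleCat.{u} R)
    (h : ∀ m : M, ∃ n : ℕ, ∀ a ∈ J ^ n, a • m = 0) (x : PrimeSpectrum.Top R)
    (hx : ¬ J ≤ x.asIdeal) :
    Subsingleton ((tilde M).presheaf.stalk x) := by
  obtain ⟨a, haJ, hax⟩ := Set.not_subset.1 hx
  suffices hz : ∀ w : (tilde M).presheaf.stalk x, w = 0 from
    ⟨fun a b => by rw [hz a, hz b]⟩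
  intro w
  haveI hloc : IsLocalizedModule x.asIdeal.primeCompl (tilde.toStalk M x).hom := inferInstance
  obtain ⟨⟨m, s⟩, hms⟩ := IsLocalizedModule.surj x.asIdeal.primeCompl
    (tilde.toStalk M x).hom w
  obtain ⟨n, hn⟩ := h m
  have han : a ^ n ∈ x.asIdeal.primeCompl := fun hh => hax (x.isPrime.mem_of_pow_mem n hh)
  have h0 : (tilde.toStalk M x).hom m = 0 := by
    have h1 := (IsLocalizedModule.map_units (tilde.toStalk M x).hom
      ⟨a ^ n, han⟩)
    rw [Module.End.isUnit_iff] at h1
    apply h1.1
    change a ^ n • (tilde.toStalk M x).hom m = a ^ n • 0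
    rw [← map_smul, hn _ (Ideal.pow_mem_pow haJ n), map_zero, smul_zero]
  rw [h0] at hms
  have h2 := (IsLocalizedModule.map_units (tilde.toStalk M x).hom s)
  rw [Module.End.isUnit_iff] at h2
  apply h2.1
  change (s : R) • w = (s : R) • 0
  rw [smul_zero]
  exact hms

theorem HFin.of_torsion (hZ : StableUnderSpecialization Z) (J : Ideal R)
    (hJ : PrimeSpectrum.zeroLocus (J : Set R) ⊆ Z) (M : Type u) [AddCommGroup M] [Module R M]
    (h : ∀ m : M, ∃ n : ℕ, ∀ a ∈ J ^ n, a • m = 0) : HFin Z M := by
  have hzero : IsZero ((ZClos.H0 (X := Spec R) Z).obj (tilde (ModuleCat.of R M))) := by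
    rw [Groth.Agent.Lib.Helper17.ZClosKit.isZero_H0_iff hZ]
    intro x hx
    apply subsingleton_stalk_of_torsion J (ModuleCat.of R M) h x
    intro hle
    exact hx (hJ hle)
  haveI := preservesFiniteLimits_HZ Z hZ
  have hz2 : IsZero ((HZ Z).obj (ModuleCat.of R M)) := by
    have : PreservesFiniteLimits (moduleSpecΓFunctor (R := R)) := by
      have : PreservesLimitsOfSize.{0, 0} (moduleSpecΓFunctor (R := R)) :=
        (tilde.adjunction (R := R)).rightAdjoint_preservesLimits
      exact PreservesLimitsOfSize.preservesFiniteLimits _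
    haveI : (moduleSpecΓFunctor (R := R)).Additive := by
      haveI := Limits.preservesBinaryBiproducts_of_preservesBinaryProducts
        (moduleSpecΓFunctor (R := R))
      exact Functor.additive_of_preservesBinaryBiproducts _
    exact (moduleSpecΓFunctor (R := R)).map_isZero hzero
  haveI : Subsingleton ((HZ Z).obj (ModuleCat.of R M)) := ModuleCat.subsingleton_of_isZero hz2
  unfold HFin
  infer_instance

end Groth.Agent.Lib.Helper14.ZH
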