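import Mathlib
import Groth.Prelude.Def_ZClos
import Groth.Agent.Lib.Helper17.ZClosKit

/-!
# Finiteness of the global sections of `H⁰_{X/Z}(F)` on `Spec R` from a compatible family of
embeddings of the stages into a Noetherian module (helper14)
-/

set_option autoImplicit false
set_option linter.style.haveILetI false
set_option linter.unusedSectionVars false
set_option linter.unusedVariables false

universe u
open CategoryTheory CategoryTheory.Limits Opposite TopologicalSpace AlgebraicGeometry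
open Groth.Agent.Lib.Helper17.ZClosKit Groth.Agent.Lib.Helper3

noncomputable section

namespace Groth.Agent.Lib.Helper14.ZH

variable {R : CommRingCat.{u}} [IsNoetherianRing R] (Z : Set (Spec R)) (F : (Spec R).Modules)

theorem isCompact_top' : IsCompact ((⊤ : (Spec R).Opens) : Set (Spec R)) := isCompact_univ

/-- the colimit injection on global sections, as an `R`-linear map. -/
def injLin (T : ZClos.Cl Z) : Γ(F, AO T.U ⊤) →ₗ[R] Γ((ZClos.H0 Z).obj F, ⊤) where
  toFun := (inj Z F T).app ⊤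
  map_add' a b := map_add ((inj Z F T).app ⊤).hom a b
  map_smul' r t := by
    change (inj Z F T).app ⊤ (r • t) = r • (inj Z F T).app ⊤ t
    rw [Scheme.Modules.smul_Spec_def, Scheme.Modules.smul_Spec_def, ← inj_smul]
    congr 2

theorem injLin_apply (T : ZClos.Cl Z) (t : Γ(F, AO T.U ⊤)) :
    injLin Z F T t = (inj Z F T).app ⊤ t := rfl

variable {Z F}

section family

variable {N : Type u} [AddCommGroup N] [Module R N]
  (e : ∀ T : ZClos.Cl Z, Γ(F, AO T.U ⊤) →ₗ[R] N) (he : ∀ T, Function.Injective (e T))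
  (hc : ∀ (T T' : ZClos.Cl Z) (h : T ≤ T') (t : Γ(F, AO T.U ⊤)),
    e T' (QCSec.res F (AO_mono_left (ZClos.Cl.U_anti h) ⊤) t) = e T t)
include he hc

theorem injLin_injective_of_family (T : ZClos.Cl Z) : Function.Injective (injLin Z F T) := by
  intro a b hab
  obtain ⟨T', hTT', h1⟩ := exists_res_eq_of_inj_eq Z F isCompact_top' T a b hab
  apply he T
  rw [← hc T T' hTT' a, ← hc T T' hTT' b, h1]

theorem range_mono_of_family {T T' : ZClos.Cl Z} (h : T ≤ T') :
    LinearMap.range (e T) ≤ LinearMap.range (e T') := by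
  rintro _ ⟨t, rfl⟩
  exact ⟨_, hc T T' h t⟩

/-- **Stabilisation.** -/
theorem finite_of_stab [Module.Finite R N] : Module.Finite R Γ((ZClos.H0 Z).obj F, ⊤) := by
  haveI : IsNoetherian R N := isNoetherian_of_isNoetherianRing_of_finite R N
  obtain ⟨I₀, ⟨T₀, rfl⟩, hmax⟩ := (wellFounded_gt (α := Submodule R N)).has_min
    (Set.range fun T : ZClos.Cl Z => LinearMap.range (e T)) ⟨_, ⟨⊥, rfl⟩⟩
  have hsurj : Function.Surjective (injLin Z F T₀) := by
    intro σ
    obtain ⟨T, t, ht⟩ := exists_inj_eq Z F isCompact_top' σ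
    have h1 : LinearMap.range (e (T ⊔ T₀)) = LinearMap.range (e T₀) := by
      have hle := range_mono_of_family e he hc (le_sup_right : T₀ ≤ T ⊔ T₀)
      by_contra hne
      exact hmax _ ⟨T ⊔ T₀, rfl⟩ (lt_of_le_of_ne hle (Ne.symm hne))
    have h2 : e (T ⊔ T₀) (QCSec.res F (AO_mono_left (ZClos.Cl.U_anti
        (le_sup_left : T ≤ T ⊔ T₀)) ⊤) t) ∈ LinearMap.range (e T₀) := h1 ▸ ⟨_, rfl⟩
    obtain ⟨u, hu⟩ := h2
    have h3 : QCSec.res F (AO_mono_left (ZClos.Cl.U_anti (le_sup_right : T₀ ≤ T ⊔ T₀)) ⊤) u =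
        QCSec.res F (AO_mono_left (ZClos.Cl.U_anti (le_sup_left : T ≤ T ⊔ T₀)) ⊤) t := by
      apply he (T ⊔ T₀)
      rw [hc T₀ (T ⊔ T₀) le_sup_right u, hu]
    refine ⟨u, ?_⟩
    rw [injLin_apply, ← inj_map Z F (le_sup_right : T₀ ≤ T ⊔ T₀) ⊤ u, h3,
      inj_map Z F (le_sup_left : T ≤ T ⊔ T₀) ⊤ t, ht]
  haveI : Module.Finite R Γ(F, AO T₀.U ⊤) := Module.Finite.of_injective (e T₀) (he T₀)
  exact Module.Finite.of_surjective (injLin Z F T₀) hsurj

/-- conversely, if the global sections of `H⁰_{X/Z}(F)` are finite, all stages embed in one. -/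
theorem exists_stage_of_finite (hfin : Module.Finite R Γ((ZClos.H0 Z).obj F, ⊤)) :
    ∃ T₀ : ZClos.Cl Z, Module.Finite R Γ(F, AO T₀.U ⊤) ∧
      ∀ (T : ZClos.Cl Z) (t : Γ(F, AO T.U ⊤)), ∃ u, e T₀ u = e T t := by
  classical
  obtain ⟨S, hS⟩ := hfin.fg_top
  have hex : ∀ σ : Γ((ZClos.H0 Z).obj F, ⊤), ∃ (T : ZClos.Cl Z) (t : Γ(F, AO T.U ⊤)),
      (inj Z F T).app ⊤ t = σ := fun σ => exists_inj_eq Z F isCompact_top' σ
  choose Tσ tσ hσ using hex
  let T₀ : ZClos.Cl Z := S.sup Tσ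
  have hsurj : Function.Surjective (injLin Z F T₀) := by
    rw [← LinearMap.range_eq_top, eq_top_iff, ← hS, Submodule.span_le]
    intro σ hσS
    have hle : Tσ σ ≤ T₀ := Finset.le_sup (f := Tσ) hσS
    refine ⟨QCSec.res F (AO_mono_left (ZClos.Cl.U_anti hle) ⊤) (tσ σ), ?_⟩
    rw [injLin_apply, inj_map Z F hle ⊤ (tσ σ), hσ]
  refine ⟨T₀, ?_, ?_⟩
  · haveI := hfin
    haveI : IsNoetherian R Γ((ZClos.H0 Z).obj F, ⊤) :=
      isNoetherian_of_isNoetherianRing_of_finite R _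
    exact Module.Finite.of_injective (injLin Z F T₀) (injLin_injective_of_family e he hc T₀)
  · intro T t
    obtain ⟨u, hu⟩ := hsurj ((inj Z F (T ⊔ T₀)).app ⊤
      (QCSec.res F (AO_mono_left (ZClos.Cl.U_anti (le_sup_left : T ≤ T ⊔ T₀)) ⊤) t))
    refine ⟨u, ?_⟩
    rw [injLin_apply, ← inj_map Z F (le_sup_right : T₀ ≤ T ⊔ T₀) ⊤ u] at hu
    have h3 := injLin_injective_of_family e he hc (T ⊔ T₀) hu
    rw [← hc T₀ (T ⊔ T₀) le_sup_right u, h3, hc T (T ⊔ T₀) le_sup_left t]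

end family

end Groth.Agent.Lib.Helper14.ZH
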