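import Mathlib
import Groth.Prelude.Def_EGA4b
import Groth.Agent.Lib.Helper14.ZH.Func
import Groth.Agent.Lib.Helper14.ZH.Ev
import Groth.Agent.Lib.Helper14.ZH.Stab
import Groth.Agent.Lib.Helper14.CohPush.Sections
import Groth.Agent.Lib.Helper4.HullFinite

/-!
# `H⁰_{X/Z}` of `(R/p)~` and the ring `(R/p)^(1)` (helper14)
-/

set_option autoImplicit false
set_option linter.style.haveILetI false
set_option linter.unusedSectionVars false
set_option linter.unusedVariables false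
set_option maxHeartbeats 400000

universe u
open CategoryTheory CategoryTheory.Limits Opposite TopologicalSpace AlgebraicGeometry
open Groth.Agent.Lib.Helper17.ZClosKit Groth.Agent.Lib.Helper3
open Groth.Agent.Lib.Helper13.TildeCech

noncomputable section

namespace Groth.Agent.Lib.Helper14.ZH

theorem hullFinite_of_le_fg (B : Type u) [CommRing B] [IsDomain B] [IsNoetherianRing B]
    (W : Submodule B (FractionRing B)) (hW : W.FG)
    (hle : ∀ x ∈ EGA4.heightOneHull B, x ∈ W) : EGA4.HeightOneHullFinite B := by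
  haveI : Module.Finite B W := Module.Finite.of_fg hW
  haveI : IsNoetherian B W := isNoetherian_of_isNoetherianRing_of_finite B _
  refine ⟨Groth.Agent.Lib.Helper4.HullFinite.hullSubalgebra B, rfl, ?_⟩
  have hle' : Subalgebra.toSubmodule (Groth.Agent.Lib.Helper4.HullFinite.hullSubalgebra B) ≤ W :=
    fun x hx => hle x hx
  have hfg : (Subalgebra.toSubmodule (Groth.Agent.Lib.Helper4.HullFinite.hullSubalgebra B)).FG := by
    have h1 : ((Subalgebra.toSubmodule (Groth.Agent.Lib.Helper4.HullFinite.hullSubalgebra B)).comap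
        W.subtype).FG := IsNoetherian.noetherian _
    have h2 := h1.map W.subtype
    rwa [Submodule.map_comap_subtype, inf_eq_right.mpr hle'] at h2
  exact Module.Finite.of_fg hfg

variable {R : CommRingCat.{u}} [IsNoetherianRing R] (p : Ideal R) [hp : p.IsPrime]

theorem evK_mem_hull {Z : Set (Spec R)}
    (hdim : ∀ y : PrimeSpectrum.Top R, y ∈ Z → p ≤ y.asIdeal →
      (2 : ℕ∞) ≤ (y.asIdeal.map (Ideal.Quotient.mk p)).height)
    (T : ZClos.Cl Z) (hη : etaPt p ∈ AO T.U ⊤) (t : Γ(tilde (Bmod p), AO T.U ⊤)) :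
    evK p _ hη t ∈ EGA4.heightOneHull (R ⧸ p) := by
  intro P hP hP1
  let y : PrimeSpectrum.Top R := ⟨P.comap (Ideal.Quotient.mk p), inferInstance⟩
  have hpy : p ≤ y.asIdeal := by
    intro a ha
    change Ideal.Quotient.mk p a ∈ P
    rw [Ideal.Quotient.eq_zero_iff_mem.2 ha]
    exact zero_mem _
  have hmap : y.asIdeal.map (Ideal.Quotient.mk p) = P :=
    Ideal.map_comap_of_surjective _ Ideal.Quotient.mk_surjective P
  have hyZ : y ∉ Z := by
    intro h
    have h2 := hdim y h hpy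
    rw [hmap, hP1] at h2
    exact absurd h2 (by norm_num)
  have hyU : y ∈ AO T.U ⊤ := mem_AO.2 ⟨mem_U_of_not_mem Z hyZ T, trivial⟩
  obtain ⟨g, hyg, hle, n, f, hf⟩ := exists_local_rep (Bmod p) t y hyU
  have hgP : g ∉ y.asIdeal := hyg
  have hgp : etaPt p ∈ D g := fun h => hgP (hpy h)
  have h1 : evK p _ hgp (g ^ n • res (tilde (Bmod p)) hle t) = g ^ n • evK p _ hη t := by
    rw [map_smul, evK_res]
  rw [hf, evK_toOpen, smul_K, iotaK_apply] at h1
  refine ⟨Ideal.Quotient.mk p (g ^ n), ?_, f, h1⟩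
  intro h
  exact hgP (y.isPrime.mem_of_pow_mem n h)

theorem HFin.quot_prime {Z : Set (Spec R)} (hpZ : etaPt p ∉ Z)
    (hdim : ∀ y : PrimeSpectrum.Top R, y ∈ Z → p ≤ y.asIdeal →
      (2 : ℕ∞) ≤ (y.asIdeal.map (Ideal.Quotient.mk p)).height)
    (hfin : EGA4.HeightOneHullFinite (R ⧸ p)) : HFin Z (R ⧸ p) := by
  obtain ⟨C, hC, hCfin⟩ := hfin
  let W : Submodule R (FractionRing (R ⧸ p)) := (Subalgebra.toSubmodule C).restrictScalars R
  haveI : Module.Finite R W := by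
    rw [Module.Finite.iff_fg]
    have h1 : (Subalgebra.toSubmodule C).FG := (Module.Finite.iff_fg).1 hCfin
    exact h1.restrictScalars_of_surjective Ideal.Quotient.mk_surjective
  have hη : ∀ T : ZClos.Cl Z, etaPt p ∈ AO T.U ⊤ :=
    fun T => mem_AO.2 ⟨mem_U_of_not_mem Z hpZ T, trivial⟩
  let e : ∀ T : ZClos.Cl Z, Γ(tilde (Bmod p), AO T.U ⊤) →ₗ[R] W := fun T =>
    LinearMap.codRestrict W (evK p _ (hη T)) (fun t => by
      change evK p _ (hη T) t ∈ (C : Set _)
      rw [hC]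
      exact evK_mem_hull p hdim T (hη T) t)
  have he : ∀ T, Function.Injective (e T) := fun T a b hab =>
    evK_injective p _ (hη T) (congrArg Subtype.val hab)
  have hc : ∀ (T T' : ZClos.Cl Z) (h : T ≤ T') (t : Γ(tilde (Bmod p), AO T.U ⊤)),
      e T' (QCSec.res (tilde (Bmod p)) (AO_mono_left (ZClos.Cl.U_anti h) ⊤) t) = e T t :=
    fun T T' h t => Subtype.ext rfl
  exact finite_of_stab e he hc

/-- the points of `V(p)` of height at least 2 in `R/p`. -/
def Z2 : Set (Spec R) :=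
  {y | p ≤ y.asIdeal ∧ (2 : ℕ∞) ≤ (y.asIdeal.map (Ideal.Quotient.mk p)).height}

theorem stable_Z2 : StableUnderSpecialization (Z2 p) := by
  intro x y hxy hx
  have hle : x.asIdeal ≤ y.asIdeal := (PrimeSpectrum.le_iff_specializes x y).2 hxy
  exact ⟨hx.1.trans hle, hx.2.trans (Ideal.height_mono (Ideal.map_mono hle))⟩

theorem eta_not_mem_Z2 : etaPt p ∉ Z2 p := by
  rintro ⟨-, h⟩
  have h1 : (etaPt p).asIdeal.map (Ideal.Quotient.mk p) = ⊥ := Ideal.map_quotient_self p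
  rw [h1, Ideal.height_eq_zero_iff_eq_bot.2 rfl] at h
  exact absurd h (by norm_num)


/-- every element of `(R/p)^(1)` is the value of a section of `(R/p)~` over the complement of a
closed subset of `Z2 p`. -/
theorem exists_section_evK_eq (ξ : FractionRing (R ⧸ p))
    (hξ : ξ ∈ EGA4.heightOneHull (R ⧸ p)) :
    ∃ (T : ZClos.Cl (Z2 p)) (hη : etaPt p ∈ AO T.U ⊤) (t : Γ(tilde (Bmod p), AO T.U ⊤)),
      evK p _ hη t = ξ := by
  classical
  -- the denominator ideal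
  let J : Ideal R :=
    { carrier := {a | ∃ b : R ⧸ p, iotaK p b = a • ξ}
      zero_mem' := ⟨0, by rw [map_zero, zero_smul]⟩
      add_mem' := by
        rintro a a' ⟨b, hb⟩ ⟨b', hb'⟩
        exact ⟨b + b', by rw [map_add, hb, hb', add_smul]⟩
      smul_mem' := by
        rintro c a ⟨b, hb⟩
        exact ⟨c • b, by rw [map_smul, hb, smul_smul]; rfl⟩ }
  have hJmem : ∀ a : R, a ∈ J ↔ ∃ b : R ⧸ p, iotaK p b = a • ξ := fun a => Iff.rfl
  obtain ⟨c, hcJ, hcp⟩ : ∃ c ∈ J, c ∉ p := by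
    obtain ⟨b, d, hd, rfl⟩ := IsFractionRing.div_surjective (A := R ⧸ p) ξ
    obtain ⟨d', rfl⟩ := Ideal.Quotient.mk_surjective d
    have hd0 : algebraMap (R ⧸ p) (FractionRing (R ⧸ p)) (Ideal.Quotient.mk p d') ≠ 0 := by
      intro h
      exact nonZeroDivisors.ne_zero hd
        (IsFractionRing.injective (R ⧸ p) (FractionRing (R ⧸ p)) (h.trans (map_zero _).symm))
    refine ⟨d', (hJmem d').2 ⟨b, ?_⟩, ?_⟩
    · rw [smul_K, iotaK_apply, mul_div_cancel₀ _ hd0]
    · intro h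
      exact nonZeroDivisors.ne_zero hd (Ideal.Quotient.eq_zero_iff_mem.2 h)
  have hpJ : p ≤ J := fun a ha => (hJmem a).2 ⟨0, by
    rw [map_zero, smul_K, Ideal.Quotient.eq_zero_iff_mem.2 ha, map_zero, zero_mul]⟩
  have hJZ : PrimeSpectrum.zeroLocus (J : Set R) ⊆ Z2 p := by
    intro y hy
    rw [PrimeSpectrum.mem_zeroLocus, SetLike.coe_subset_coe] at hy
    have hpy : p ≤ y.asIdeal := hpJ.trans hy
    refine ⟨hpy, ?_⟩
    by_contra hlt
    rw [not_le, ENat.lt_two_iff] at hlt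
    haveI hQ : (y.asIdeal.map (Ideal.Quotient.mk p)).IsPrime :=
      Ideal.map_isPrime_of_surjective Ideal.Quotient.mk_surjective (by
        rw [Ideal.mk_ker]; exact hpy)
    rcases hlt.eq_or_lt with h1 | h0
    · obtain ⟨s, hs, a, ha⟩ := hξ _ h1
      obtain ⟨s', rfl⟩ := Ideal.Quotient.mk_surjective s
      apply hs
      apply Ideal.mem_map_of_mem
      apply hy
      exact (hJmem s').2 ⟨a, by rw [iotaK_apply, ha, smul_K]⟩
    · rw [ENat.lt_one_iff_eq_zero, Ideal.height_eq_zero_iff_eq_bot] at h0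
      apply hcp
      rw [← Ideal.Quotient.eq_zero_iff_mem]
      have h2 : Ideal.Quotient.mk p c ∈ y.asIdeal.map (Ideal.Quotient.mk p) :=
        Ideal.mem_map_of_mem _ (hy hcJ)
      rw [h0] at h2
      exact h2
  let T : ZClos.Cl (Z2 p) :=
    ⟨⟨PrimeSpectrum.zeroLocus (J : Set R), PrimeSpectrum.isClosed_zeroLocus _⟩, hJZ⟩
  have hmemU : ∀ x : Spec R, x ∈ AO T.U ⊤ ↔ ¬ J ≤ x.asIdeal := by
    intro x
    constructor
    · intro hx hle
      exact (mem_AO.1 hx).1 hle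
    · intro h
      exact mem_AO.2 ⟨fun hle => h hle, trivial⟩
  have hη : etaPt p ∈ AO T.U ⊤ := (hmemU (etaPt p)).2 fun hle => hcp (hle hcJ)
  -- a finite generating set of `J`
  obtain ⟨Tf, hTf⟩ := (isNoetherianRing_iff_ideal_fg R).1 inferInstance J
  have hTfJ : ∀ g ∈ Tf, g ∈ J := fun g hg => hTf ▸ Ideal.subset_span hg
  have hle : ∀ g ∈ Tf, D g ≤ AO T.U ⊤ := by
    intro g hg x hx
    rw [hmemU]
    intro hJx
    exact hx (hJx (hTfJ g hg))
  have hcov : ∀ x ∈ AO T.U ⊤, ∃ g ∈ Tf, x ∈ D g := by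
    intro x hx
    rw [hmemU] at hx
    by_contra hcon
    push_neg at hcon
    apply hx
    rw [← hTf, Ideal.span_le]
    intro g hg
    by_contra hgx
    exact hcon g hg hgx
  -- the homomorphism `J → R/p`, `a ↦ aξ`
  let ψ₀ : J →ₗ[R] LinearMap.range (iotaK p) :=
    LinearMap.codRestrict _ ((LinearMap.toSpanSingleton R (FractionRing (R ⧸ p)) ξ).comp J.subtype)
      (fun a => by
        obtain ⟨b, hb⟩ := (hJmem a.1).1 a.2
        exact ⟨b, hb⟩)
  let ψ : J →ₗ[R] (R ⧸ p) :=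
    ((LinearEquiv.ofInjective (iotaK p) (iotaK_injective p)).symm : _ →ₗ[R] _).comp ψ₀
  have hψ : ∀ a : J, iotaK p (ψ a) = (a : R) • ξ := by
    intro a
    have h1 := congrArg Subtype.val
      ((LinearEquiv.ofInjective (iotaK p) (iotaK_injective p)).apply_symm_apply (ψ₀ a))
    exact h1
  let φ : ↥(J ^ 1) →ₗ[R] Γ(tilde (Bmod p), AO T.U ⊤) :=
    ((tilde.toOpen (Bmod p) (AO T.U ⊤)).hom.comp ψ).comp
      ((LinearEquiv.ofEq (J ^ 1) J (pow_one J)) : _ →ₗ[R] _)
  obtain ⟨s, hs⟩ := Groth.Agent.Lib.Helper14.CohPush.exists_section_of_linearMap Tf (AO T.U ⊤)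
    hle hcov (isLocalizing_tilde (Bmod p)) J hTfJ 1 φ
  refine ⟨T, hη, s, ?_⟩
  have hc1 : c ∈ J ^ 1 := by rw [pow_one]; exact hcJ
  have h1 := hs ⟨c, hc1⟩
  have h2 : evK p _ hη (φ ⟨c, hc1⟩) = c • ξ := by
    change evK p _ hη ((tilde.toOpen (Bmod p) (AO T.U ⊤)).hom (ψ ⟨c, hcJ⟩)) = c • ξ
    rw [evK_toOpen]
    exact hψ ⟨c, hcJ⟩
  rw [h1, map_smul] at h2
  have h3 : c • (evK p _ hη s - ξ) = 0 := by rw [smul_sub, h2, sub_self]
  exact sub_eq_zero.1 (smul_K_eq_zero p hcp h3)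

/-- if the global sections of `H⁰_{X/Z2}((R/p)~)` are finite then `(R/p)^(1)` is finite. -/
theorem hullFinite_of_HFin (h : HFin (Z2 p) (R ⧸ p)) : EGA4.HeightOneHullFinite (R ⧸ p) := by
  classical
  have hη : ∀ T : ZClos.Cl (Z2 p), etaPt p ∈ AO T.U ⊤ :=
    fun T => mem_AO.2 ⟨mem_U_of_not_mem _ (eta_not_mem_Z2 p) T, trivial⟩
  let e : ∀ T : ZClos.Cl (Z2 p), Γ(tilde (Bmod p), AO T.U ⊤) →ₗ[R] FractionRing (R ⧸ p) :=
    fun T => evK p _ (hη T)
  have he : ∀ T, Function.Injective (e T) := fun T => evK_injective p _ (hη T)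
  have hc : ∀ (T T' : ZClos.Cl (Z2 p)) (h : T ≤ T') (t : Γ(tilde (Bmod p), AO T.U ⊤)),
      e T' (QCSec.res (tilde (Bmod p)) (AO_mono_left (ZClos.Cl.U_anti h) ⊤) t) = e T t :=
    fun T T' h t => rfl
  have hfin : Module.Finite R Γ((ZClos.H0 (Z2 p)).obj (tilde (Bmod p)), ⊤) := h
  obtain ⟨T₀, hT₀fin, hT₀⟩ := exists_stage_of_finite e he hc hfin
  obtain ⟨G, hG⟩ := hT₀fin.fg_top
  let W : Submodule (R ⧸ p) (FractionRing (R ⧸ p)) :=
    Submodule.span (R ⧸ p) ((e T₀) '' (G : Set _))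
  have hW : ∀ u, e T₀ u ∈ W := by
    intro u
    have hu : u ∈ Submodule.span R (G : Set Γ(tilde (Bmod p), AO T₀.U ⊤)) :=
      hG ▸ Submodule.mem_top
    refine Submodule.span_induction (p := fun u _ => e T₀ u ∈ W) ?_ ?_ ?_ ?_ hu
    · intro g hg
      exact Submodule.subset_span ⟨g, hg, rfl⟩
    · rw [map_zero]; exact zero_mem _
    · intro a b _ _ ha hb
      rw [map_add]; exact add_mem ha hb
    · intro r u _ hu
      rw [map_smul, smul_K, ← Algebra.smul_def]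
      exact W.smul_mem _ hu
  apply hullFinite_of_le_fg (R ⧸ p) W (Submodule.fg_span ((G.finite_toSet).image _))
  intro ξ hξ
  obtain ⟨T, hηT, t, ht⟩ := exists_section_evK_eq p ξ hξ
  obtain ⟨u, hu⟩ := hT₀ T t
  have h2 : e T t = ξ := ht
  rw [← h2, ← hu]
  exact hW u

end Groth.Agent.Lib.Helper14.ZH
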