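import Mathlib
import Groth.Agent.Lib.Helper14.ZH.Func
import Groth.Agent.Lib.Helper14.ZH.Dev
import Groth.Agent.Lib.Helper14.ZH.Dom
import Groth.Agent.Lib.Helper14.CohPush.Main
import Groth.Agent.Lib.Helper17.CohPushNecSpec

/-!
# Finiteness of `Γ(Spec R, H⁰_{X/Z}(M~))` from the associated primes of `M` (helper14)
-/

set_option autoImplicit false
set_option linter.style.haveILetI false
set_option linter.unusedSectionVars false
set_option linter.unusedVariables false
set_option maxHeartbeats 400000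

universe u
open CategoryTheory CategoryTheory.Limits Opposite TopologicalSpace AlgebraicGeometry
open Groth.Agent.Lib.Helper17.ZClosKit Groth.Agent.Lib.Helper3
open Groth.Agent.Lib.Helper13.TildeCech

noncomputable section

namespace Groth.Agent.Lib.Helper14.ZH

variable {R : CommRingCat.{u}} [IsNoetherianRing R] {Z : Set (Spec R)}

theorem devClass_HFin (hZ : StableUnderSpecialization Z) :
    DevClass (A := R) (fun (N : Type u) [AddCommGroup N] [Module R N] => HFin Z N) := by
  refine ⟨?_, ?_, ?_⟩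
  · intro N _ _ _
    apply HFin.of_torsion hZ ⊤
    · intro y hy
      exfalso
      rw [PrimeSpectrum.mem_zeroLocus] at hy
      exact y.isPrime.ne_top (eq_top_iff.2 fun a _ => hy (Submodule.mem_top))
    · intro m
      exact ⟨0, fun a _ => by rw [Subsingleton.elim m 0, smul_zero]⟩
  · intro M₁ M₂ _ _ _ _ f hf h
    exact HFin.of_injective hZ f hf h
  · intro N _ _ N' h1 h3
    exact HFin.of_submodule_quotient hZ N' h1 h3

/-- **Main finiteness criterion.** -/
theorem HFin.of_ass (hZ : StableUnderSpecialization Z) (M : Type u) [AddCommGroup M]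
    [Module R M] [Module.Finite R M]
    (h : ∀ (p : Ideal R) (hp : p.IsPrime), p ∈ associatedPrimes R M →
      (⟨p, hp⟩ : PrimeSpectrum R) ∉ Z →
        EGA4.HeightOneHullFinite (R ⧸ p) ∧ ∀ y : PrimeSpectrum.Top R, y ∈ Z → p ≤ y.asIdeal →
          (2 : ℕ∞) ≤ (y.asIdeal.map (Ideal.Quotient.mk p)).height) : HFin Z M := by
  refine (devClass_HFin hZ).main Z hZ ?_ M ?_
  · intro J hJ N _ _ h
    exact HFin.of_torsion hZ J hJ N h
  · intro p hp hpass hpZ
    haveI := hp
    exact HFin.quot_prime p hpZ (h p hp hpass hpZ).2 (h p hp hpass hpZ).1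

/-- for a closed `Z = V(J)`: finiteness of `Γ(H⁰_{X/Z}(M~))` forces `ht J(R/p) ≥ 2` for the
associated primes `p` of `M` outside `V(J)`. -/
theorem two_le_height_of_HFin_closed (Z : Set (Spec R)) (J : Ideal R)
    (hZJ : Z = PrimeSpectrum.zeroLocus (J : Set R)) (M : Type u) [AddCommGroup M] [Module R M]
    [Module.Finite R M] (h : HFin Z M) :
    ∀ p ∈ associatedPrimes R M, ¬ J ≤ p →
      (2 : ℕ∞) ≤ (J.map (Ideal.Quotient.mk p)).height := by
  subst hZJ
  let C : TopologicalSpace.Closeds (Spec R) :=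
    ⟨PrimeSpectrum.zeroLocus (J : Set R), PrimeSpectrum.isClosed_zeroLocus _⟩
  let Ttop : ZClos.Cl (X := Spec R) (PrimeSpectrum.zeroLocus (J : Set R)) :=
    ⟨C, fun _ hx => hx⟩
  have hinj : Function.Injective (injLin (R := R) (PrimeSpectrum.zeroLocus (J : Set R))
      (tilde (ModuleCat.of R M)) Ttop) := by
    intro a b hab
    obtain ⟨T', hTT', h1⟩ := exists_res_eq_of_inj_eq _ _ isCompact_top' Ttop a b hab
    have hT' : T' ≤ Ttop := T'.2
    have hle : AO Ttop.U ⊤ ≤ AO T'.U ⊤ := AO_mono_left (ZClos.Cl.U_anti hT') ⊤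
    exact (res_bijective_of_ge _ (AO_mono_left (ZClos.Cl.U_anti hTT') ⊤) hle).1 h1
  haveI hfin : Module.Finite R
      Γ((ZClos.H0 (X := Spec R) (PrimeSpectrum.zeroLocus (J : Set R))).obj
        (tilde (ModuleCat.of R M)), ⊤) := h
  haveI : IsNoetherian R
      Γ((ZClos.H0 (X := Spec R) (PrimeSpectrum.zeroLocus (J : Set R))).obj
        (tilde (ModuleCat.of R M)), ⊤) := isNoetherian_of_isNoetherianRing_of_finite R _
  haveI hfinT : Module.Finite R Γ(tilde (ModuleCat.of R M), AO Ttop.U ⊤) :=
    Module.Finite.of_injective _ hinj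
  have hoc : AO Ttop.U ⊤ ≤ CohPush.oc R J := by
    intro x hx
    exact (mem_AO.1 hx).1
  have hoc' : CohPush.oc R J ≤ AO Ttop.U ⊤ := by
    intro x hx
    exact mem_AO.2 ⟨hx, trivial⟩
  haveI : IsNoetherian R Γ(tilde (ModuleCat.of R M), AO Ttop.U ⊤) :=
    isNoetherian_of_isNoetherianRing_of_finite R _
  have hSec : Module.Finite R (CohPush.Sec R J M) :=
    Module.Finite.of_injective (res (tilde (ModuleCat.of R M)) hoc)
      (fun a b hab => (res_bijective_of_ge (tilde (ModuleCat.of R M)) hoc hoc').1 hab)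
  have hcoh : EGA4.IsCoherentPushCompl R J M := CohPush.finite_top_of_finite_Sec R J M hSec
  exact Groth.Agent.Lib.Helper17.CohPushNecSpec.main R J M hcoh

end Groth.Agent.Lib.Helper14.ZH
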