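import Mathlib
import Groth.Agent.Lib.Helper14.ZH.Main
import Groth.Agent.Lib.Helper3.AssPoints
import Groth.Agent.Lib.Helper3.QCExtend
import Groth.Agent.Lib.Helper4.HullFinite
import Groth.Agent.S5853
import Groth.Agent.S5854
import Groth.Prelude.Def_FDesc
import Groth.Prelude.Def_Found

/-!
# Finiteness of the sections of `H⁰_{X/Z}(F)` over an affine open (helper14)
-/

set_option autoImplicit false
set_option linter.style.haveILetI false
set_option linter.unusedSectionVars false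
set_option linter.unusedVariables false
set_option maxHeartbeats 800000

universe u
open CategoryTheory CategoryTheory.Limits Opposite TopologicalSpace AlgebraicGeometry
open Groth.Agent.Lib.Helper17.ZClosKit Groth.Agent.Lib.Helper3

noncomputable section

namespace Groth.Agent.Lib.Helper14.ZH

variable {X : Scheme.{u}} [IsLocallyNoetherian X]

/-- for a closed `T ⊆ Z`, `H⁰_{X/T}(F) = i_*(F|X∖T)`. -/
theorem isCoh_H0_closed {Z : Set X} (F : X.Modules) (T : ZClos.Cl Z)
    (h : Coh.IsCoh ((ZClos.resPush T.U).obj F)) :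
    Coh.IsCoh ((ZClos.H0 (T.1 : Set X)).obj F) := by
  let Ttop : ZClos.Cl (T.1 : Set X) := ⟨T.1, fun _ hx => hx⟩
  have hterm : IsTerminal Ttop :=
    IsTerminal.ofUniqueHom (fun T' => homOfLE (show T' ≤ Ttop from T'.2))
      (fun _ _ => Subsingleton.elim _ _)
  have hiso : IsIso (colimit.ι ((ZClos.diagram (T.1 : Set X)).obj F) Ttop) :=
    isIso_ι_of_isTerminal hterm _
  let e : (ZClos.resPush T.U).obj F ≅ (ZClos.H0 (T.1 : Set X)).obj F :=
    @asIso _ _ _ _ (colimit.ι ((ZClos.diagram (T.1 : Set X)).obj F) Ttop) hiso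
  haveI := h.1
  haveI := h.2
  exact ⟨(SheafOfModules.isQuasicoherent X.ringCatSheaf).prop_of_iso e h.1,
    QCProps.isFiniteType_of_iso e⟩


/-- transfer of coherence of `H⁰` along an isomorphism of modules. -/
theorem isCoh_H0_of_iso {Y : Scheme.{u}} (Z : Set Y) {G G' : Y.Modules} (e : G ≅ G')
    (h : Coh.IsCoh ((ZClos.H0 Z).obj G)) : Coh.IsCoh ((ZClos.H0 Z).obj G') := by
  haveI := h.1
  haveI := h.2
  exact ⟨(SheafOfModules.isQuasicoherent Y.ringCatSheaf).prop_of_iso ((ZClos.H0 Z).mapIso e) h.1,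
    QCProps.isFiniteType_of_iso ((ZClos.H0 Z).mapIso e)⟩

section chart

variable {Z : Set X} (hZ : StableUnderSpecialization Z) (F : X.Modules) [F.IsQuasicoherent]
  [F.IsFiniteType] {V : X.Opens} (hV : IsAffineOpen V)

/-- the module of sections of `F` over the chart, as a module over `Γ(X, V)` on `Spec Γ(X, V)`. -/
abbrev chartMod : ModuleCat.{u} Γ(X, V) :=
  (modulesSpecToSheaf.obj (F.restrict hV.fromSpec)).presheaf.obj (op ⊤)

/-- `Γ(F,V)~ ≅ F|_V` on `Spec Γ(X,V)`, in the pullback form. -/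
def chartIso : tilde (chartMod F hV) ≅ (Scheme.Modules.pullback hV.fromSpec).obj F :=
  haveI : IsIso (F.restrict hV.fromSpec).fromTildeΓ := inferInstance
  asIso (F.restrict hV.fromSpec).fromTildeΓ ≪≫
    (Scheme.Modules.restrictFunctorIsoPullback hV.fromSpec).app F

include hZ in
theorem finite_sections_of_HFin
    (key : haveI : IsNoetherianRing Γ(X, V) := IsLocallyNoetherian.component_noetherian ⟨V, hV⟩
      HFin (R := Γ(X, V)) (hV.fromSpec.base ⁻¹' Z) (chartMod F hV)) :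
    Module.Finite Γ(X, V) Γ((ZClos.H0 Z).obj F, V) := by
  haveI hA : IsNoetherianRing Γ(X, V) := IsLocallyNoetherian.component_noetherian ⟨V, hV⟩
  have hZ' : StableUnderSpecialization (hV.fromSpec.base ⁻¹' Z) :=
    hZ.preimage hV.fromSpec.continuous
  have h1 : Coh.IsCoh ((ZClos.H0 (hV.fromSpec.base ⁻¹' Z)).obj (tilde (chartMod F hV))) :=
    (isCoh_iff (R := Γ(X, V)) (hV.fromSpec.base ⁻¹' Z) hZ' (chartMod F hV)).2 key
  have h2 := isCoh_H0_of_iso (hV.fromSpec.base ⁻¹' Z) (chartIso F hV) h1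
  obtain ⟨e⟩ := Groth.Agent.S5853.result hV.fromSpec Z hZ F
    (inferInstanceAs F.IsQuasicoherent)
  haveI := h2.2
  haveI hq : ((ZClos.H0 Z).obj F).IsQuasicoherent :=
    Groth.Agent.S5841.result X Z hZ F (inferInstanceAs F.IsQuasicoherent)
  haveI h3 : ((Scheme.Modules.pullback hV.fromSpec).obj ((ZClos.H0 Z).obj F)).IsFiniteType :=
    QCProps.isFiniteType_of_iso e.symm
  haveI h4 : (((ZClos.H0 Z).obj F).restrict hV.fromSpec).IsFiniteType :=
    QCProps.isFiniteType_of_iso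
      ((Scheme.Modules.restrictFunctorIsoPullback hV.fromSpec).app ((ZClos.H0 Z).obj F)).symm
  haveI h5 := QCTilde.finite_of_isFiniteType (((ZClos.H0 Z).obj F).restrict hV.fromSpec)
  exact Module.Finite.equiv (QCTilde.chartSectionsEquiv hV ((ZClos.H0 Z).obj F))

include hZ in
theorem HFin_chart (hass : ∀ x ∈ AssSch.Ass F, x ∉ Z)
    (hX' : ∀ (x : X) (hxV : x ∈ V), x ∈ AssSch.Ass F →
        CAlg.IsUniversallyCatenary (Γ(X, V) ⧸ (hV.primeIdealOf ⟨x, hxV⟩).asIdeal) ∧
          CAlg.IsN1 (Γ(X, V) ⧸ (hV.primeIdealOf ⟨x, hxV⟩).asIdeal))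
    (𝒯 : Set (ZClos.Cl Z)) (hcov : ∀ z ∈ Z, ∃ T ∈ 𝒯, z ∈ (T.1 : Set X))
    (hd : ∀ T ∈ 𝒯, Coh.IsCoh ((ZClos.resPush T.U).obj F)) :
    haveI : IsNoetherianRing Γ(X, V) := IsLocallyNoetherian.component_noetherian ⟨V, hV⟩
    HFin (R := Γ(X, V)) (hV.fromSpec.base ⁻¹' Z) (chartMod F hV) := by
  haveI hA : IsNoetherianRing Γ(X, V) := IsLocallyNoetherian.component_noetherian ⟨V, hV⟩
  have hZ' : StableUnderSpecialization (hV.fromSpec.base ⁻¹' Z) :=
    hZ.preimage hV.fromSpec.continuous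
  haveI : (F.restrict hV.fromSpec).IsFiniteType := QCProps.isFiniteType_restrict hV.fromSpec F
  haveI : Module.Finite Γ(X, V) (chartMod F hV) :=
    QCTilde.finite_of_isFiniteType (F.restrict hV.fromSpec)
  apply HFin.of_ass hZ'
  intro p hp hpass hpZ
  haveI := hp
  let y₀ : Spec Γ(X, V) := ⟨p, hp⟩
  have hxV : hV.fromSpec y₀ ∈ V := by
    have h0 : hV.fromSpec y₀ ∈ Set.range hV.fromSpec := ⟨y₀, rfl⟩
    rw [hV.range_fromSpec] at h0
    exact h0
  have hprim : hV.primeIdealOf ⟨hV.fromSpec y₀, hxV⟩ = y₀ := by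
    apply hV.fromSpec.isOpenEmbedding.injective
    rw [hV.fromSpec_primeIdealOf ⟨hV.fromSpec y₀, hxV⟩]
  have hpass' : p ∈ associatedPrimes Γ(X, V) Γ(F, V) := by
    rw [← LinearEquiv.AssociatedPrimes.eq (QCTilde.chartSectionsEquiv hV F)]
    exact hpass
  have hxass : hV.fromSpec y₀ ∈ AssSch.Ass F :=
    QS.isAssPoint_of_mem_associatedPrimes hV F _ hxV (by rw [hprim]; exact hpass')
  constructor
  · have key : ∀ (y' : PrimeSpectrum Γ(X, V)), y' = y₀ →
        CAlg.IsUniversallyCatenary (Γ(X, V) ⧸ y'.asIdeal) ∧ CAlg.IsN1 (Γ(X, V) ⧸ y'.asIdeal) →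
        EGA4.HeightOneHullFinite (Γ(X, V) ⧸ p) := by
      rintro _ rfl ⟨h1, h2⟩
      exact Groth.Agent.Lib.Helper4.HullFinite.heightOneHullFinite _ h1 h2
    exact key _ hprim (hX' _ hxV hxass)
  · intro y hy hle
    obtain ⟨T, hT𝒯, hyT⟩ := hcov (hV.fromSpec y) hy
    let S : Set (Spec Γ(X, V)) := hV.fromSpec.base ⁻¹' (T.1 : Set X)
    have hSclosed : IsClosed S := T.1.2.preimage hV.fromSpec.continuous
    let J : Ideal Γ(X, V) := PrimeSpectrum.vanishingIdeal S
    have hSJ : S = PrimeSpectrum.zeroLocus (J : Set Γ(X, V)) := by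
      have h0 := PrimeSpectrum.zeroLocus_vanishingIdeal_eq_closure (R := Γ(X, V)) S
      exact (h0.trans hSclosed.closure_eq).symm
    have hcohT : Coh.IsCoh ((ZClos.H0 (T.1 : Set X)).obj F) :=
      isCoh_H0_closed F T (hd T hT𝒯)
    have hTstable : StableUnderSpecialization (T.1 : Set X) := T.1.2.stableUnderSpecialization
    have h1 := (Groth.Agent.S5854.result hV.fromSpec (T.1 : Set X) hTstable F
      (inferInstanceAs F.IsQuasicoherent)).1 hcohT
    have h2 := isCoh_H0_of_iso S (chartIso F hV).symm h1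
    have hSstable : StableUnderSpecialization S := hSclosed.stableUnderSpecialization
    have h3 : HFin (R := Γ(X, V)) S (chartMod F hV) :=
      (isCoh_iff (R := Γ(X, V)) S hSstable (chartMod F hV)).1 h2
    have hJp : ¬ J ≤ p := by
      intro hle'
      have h5 : y₀ ∈ S := by
        rw [hSJ]
        exact (PrimeSpectrum.mem_zeroLocus _ _).2 (SetLike.coe_subset_coe.2 hle')
      exact hass _ hxass (T.2 h5)
    have h4 := two_le_height_of_HFin_closed S J hSJ (chartMod F hV) h3 p hpass hJp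
    have hJy : J ≤ y.asIdeal := by
      have h5 : y ∈ S := hyT
      rw [hSJ] at h5
      exact SetLike.coe_subset_coe.1 ((PrimeSpectrum.mem_zeroLocus _ _).1 h5)
    exact h4.trans (Ideal.height_mono (Ideal.map_mono hJy))

end chart

end Groth.Agent.Lib.Helper14.ZH
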